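import Mathlib.RingTheory.Flat.Basic
import Mathlib.RingTheory.Localization.Away.Basic
import Mathlib.RingTheory.TensorProduct.Maps
import Mathlib.RingTheory.Ideal.Quotient.Operations
import Mathlib.LinearAlgebra.TensorProduct.Prod

/-!
# Glueing along a derived adic isomorphism: rings

For `A → A'` inducing bijections modulo all powers of `t` and on `t`-power torsion, the square
`A → A[1/t]`, `A → A'`, `A'[1/t]` is cartesian, also after a flat base change.
-/

set_option autoImplicit false

universe u

open TensorProduct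

noncomputable section

namespace Groth.Agent.DerGlue25

variable {A A' : Type u} [CommRing A] [CommRing A'] [Algebra A A'] (t : A)

/-- The conditions on the glueing data. -/
structure Datum : Prop where
  quot : ∀ m : ℕ, Function.Bijective
    (Ideal.quotientMap (Ideal.map (algebraMap A A') (Ideal.span {t} ^ m)) (algebraMap A A') Ideal.le_comap_map)
  tors : ∀ a' : A', (∃ m : ℕ, algebraMap A A' t ^ m * a' = 0) →
    ∃! a : A, (∃ m : ℕ, t ^ m * a = 0) ∧ algebraMap A A' a = a'

/-- The map `A[1/t] → A'[1/t]`. -/
def psi : Localization.Away t →ₐ[A] Localization.Away (algebraMap A A' t) where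
  __ := Localization.awayMap (algebraMap A A') t
  commutes' a := by
    show Localization.awayMap (algebraMap A A') t (algebraMap A _ a) = _
    rw [Localization.awayMap, IsLocalization.Away.map, IsLocalization.map_eq, ← IsScalarTower.algebraMap_apply]

theorem psi_toRingHom : (psi (A' := A') t).toRingHom = Localization.awayMap (algebraMap A A') t := rfl

/-- The map `A' → A'[1/t]`. -/
def iota : A' →ₐ[A] Localization.Away (algebraMap A A' t) := IsScalarTower.toAlgHom A A' _

/-- `A → A[1/t] × A'`. -/
def fmap : A →ₗ[A] Localization.Away t × A' :=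
  (Algebra.linearMap A (Localization.Away t)).prod (Algebra.linearMap A A')

/-- The difference map to `A'[1/t]`. -/
def gmap : Localization.Away t × A' →ₗ[A] Localization.Away (algebraMap A A' t) :=
  (psi (A' := A') t).toLinearMap ∘ₗ LinearMap.fst A _ _ - (iota t).toLinearMap ∘ₗ LinearMap.snd A _ _

theorem fmap_injective (h : Datum (A' := A') t) : Function.Injective (fmap (A' := A') t) := by
  refine (injective_iff_map_eq_zero _).2 fun a ha => ?_
  have h1 : algebraMap A (Localization.Away t) a = 0 := congrArg Prod.fst ha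
  have h2 : algebraMap A A' a = 0 := congrArg Prod.snd ha
  obtain ⟨⟨_, n, rfl⟩, hn⟩ := (IsLocalization.map_eq_zero_iff (Submonoid.powers t) _ a).1 h1
  obtain ⟨b, -, hu⟩ := h.tors 0 ⟨0, by simp⟩
  exact (hu a ⟨⟨n, hn⟩, h2⟩).trans (hu 0 ⟨⟨0, by simp⟩, map_zero _⟩).symm

theorem exact_fmap_gmap (h : Datum (A' := A') t) : Function.Exact (fmap (A' := A') t) (gmap t) := by
  rintro ⟨x, a'⟩
  constructor
  · intro hx
    have hx' : psi (A' := A') t x = algebraMap A' _ a' := sub_eq_zero.1 hx
    obtain ⟨⟨a, _, n, rfl⟩, hxa⟩ := IsLocalization.surj (Submonoid.powers t) x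
    have hxa' : x * algebraMap A (Localization.Away t) (t ^ n) = algebraMap A _ a := hxa
    have e1 := congrArg (psi (A' := A') t) hxa'
    rw [map_mul, AlgHom.commutes, AlgHom.commutes, hx', IsScalarTower.algebraMap_apply A A' _ (t ^ n),
      IsScalarTower.algebraMap_apply A A' _ a, ← map_mul] at e1
    obtain ⟨⟨_, m, rfl⟩, hm⟩ := (IsLocalization.eq_iff_exists (Submonoid.powers (algebraMap A A' t)) _).1 e1
    simp only at hm
    -- `b = t ^ m * a`, `N = m + n`
    have hb : algebraMap A A' (t ^ m * a) = algebraMap A A' t ^ (m + n) * a' := by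
      rw [map_mul, map_pow, ← hm, map_pow, pow_add]; ring
    have hmem : t ^ m * a ∈ Ideal.span {t} ^ (m + n) := by
      refine Ideal.Quotient.eq_zero_iff_mem.1 ((h.quot (m + n)).1 ?_)
      rw [Ideal.quotientMap_mk, map_zero, Ideal.Quotient.eq_zero_iff_mem, hb, Ideal.span_singleton_pow,
        Ideal.map_span, Set.image_singleton, map_pow]
      exact Ideal.mul_mem_right _ _ (Ideal.subset_span rfl)
    rw [Ideal.span_singleton_pow, Ideal.mem_span_singleton] at hmem
    obtain ⟨c, hc⟩ := hmem
    rw [hc, map_mul, map_pow] at hb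
    obtain ⟨e, ⟨⟨l, hl⟩, he⟩, -⟩ := h.tors (a' - algebraMap A A' c)
      ⟨m + n, by rw [mul_sub, hb, sub_self]⟩
    refine ⟨c + e, Prod.ext ?_ ?_⟩
    · show algebraMap A (Localization.Away t) (c + e) = x
      have he0 : algebraMap A (Localization.Away t) e = 0 :=
        (IsLocalization.map_eq_zero_iff (Submonoid.powers t) _ e).2 ⟨⟨t ^ l, l, rfl⟩, hl⟩
      have hu : IsUnit (algebraMap A (Localization.Away t) (t ^ (m + n))) :=
        IsLocalization.map_units _ (⟨t ^ (m + n), m + n, rfl⟩ : Submonoid.powers t)
      rw [map_add, he0, add_zero]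
      refine hu.mul_right_cancel ?_
      rw [← map_mul, mul_comm c, ← hc, pow_add, map_mul, map_mul, ← hxa']
      ring
    · show algebraMap A A' (c + e) = a'
      rw [map_add, he, add_sub_cancel]
  · rintro ⟨a, ha⟩
    rw [← ha]
    show psi (A' := A') t (algebraMap A _ a) - iota t (algebraMap A A' a) = 0
    rw [AlgHom.commutes, AlgHom.commutes, sub_self]

variable (D : Type u) [CommRing D] [Algebra A D]

theorem existsUnique_elt (h : Datum (A' := A') t) [Module.Flat A D] (x : D ⊗[A] Localization.Away t) (y : D ⊗[A] A')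
    (hxy : (psi (A' := A') t).toLinearMap.lTensor D x = (iota t).toLinearMap.lTensor D y) :
    ∃! d : D, d ⊗ₜ[A] (1 : Localization.Away t) = x ∧ d ⊗ₜ[A] (1 : A') = y := by
  let P := TensorProduct.prodRight A A D (Localization.Away t) A'
  have hP : ∀ d : D, P ((fmap (A' := A') t).lTensor D (d ⊗ₜ[A] 1)) = (d ⊗ₜ[A] 1, d ⊗ₜ[A] 1) := fun d => by
    simp [P, fmap]
  have hg : ∀ z, (gmap (A' := A') t).lTensor D z =
      (psi (A' := A') t).toLinearMap.lTensor D (P z).1 - (iota t).toLinearMap.lTensor D (P z).2 := by
    intro z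
    induction z using TensorProduct.induction_on with
    | zero => simp
    | tmul d w => obtain ⟨w₁, w₂⟩ := w; simp [P, gmap, TensorProduct.tmul_sub]
    | add z z' hz hz' => rw [map_add, hz, hz', map_add, Prod.fst_add, Prod.snd_add, map_add, map_add]; abel
  have hinj : Function.Injective ((fmap (A' := A') t).lTensor D) :=
    Module.Flat.lTensor_preserves_injective_linearMap _ (fmap_injective t h)
  have hex := Module.Flat.lTensor_exact D (exact_fmap_gmap t h)
  obtain ⟨z, hz⟩ := (hex (P.symm (x, y))).1 (by rw [hg, LinearEquiv.apply_symm_apply]; exact sub_eq_zero.2 hxy)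
  obtain ⟨d, rfl⟩ : ∃ d : D, d ⊗ₜ[A] (1 : A) = z :=
    ⟨TensorProduct.rid A D z, (TensorProduct.rid A D).symm_apply_apply z⟩
  have hd := congrArg P hz
  rw [hP, LinearEquiv.apply_symm_apply, Prod.mk.injEq] at hd
  refine ⟨d, hd, fun d' hd' => (TensorProduct.rid A D).symm.injective (hinj (P.injective ?_))⟩
  show P ((fmap (A' := A') t).lTensor D (d' ⊗ₜ[A] 1)) = P ((fmap (A' := A') t).lTensor D (d ⊗ₜ[A] 1))
  rw [hP, hP, hd'.1, hd'.2, hd.1, hd.2]

theorem existsUnique_ringHom (h : Datum (A' := A') t) [Module.Flat A D] {C : Type u} [CommRing C]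
    (a : C →+* D ⊗[A] Localization.Away t) (b : C →+* D ⊗[A] A')
    (hab : (Algebra.TensorProduct.map (AlgHom.id A D) (psi (A' := A') t)).toRingHom.comp a =
      (Algebra.TensorProduct.map (AlgHom.id A D) (iota t)).toRingHom.comp b) :
    ∃! m : C →+* D, Algebra.TensorProduct.includeLeftRingHom.comp m = a ∧
      Algebra.TensorProduct.includeLeftRingHom.comp m = b := by
  choose d hd hu using fun c => existsUnique_elt t D h (a c) (b c) (RingHom.congr_fun hab c)
  refine ⟨{ toFun := d
            map_one' := (hu 1 1 ⟨(map_one a).symm, (map_one b).symm⟩).symm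
            map_mul' := fun c c' => (hu _ (d c * d c') ⟨by
              rw [map_mul, ← (hd c).1, ← (hd c').1, Algebra.TensorProduct.tmul_mul_tmul, one_mul], by
              rw [map_mul, ← (hd c).2, ← (hd c').2, Algebra.TensorProduct.tmul_mul_tmul, one_mul]⟩).symm
            map_zero' := (hu 0 0 ⟨by rw [TensorProduct.zero_tmul, map_zero], by rw [TensorProduct.zero_tmul, map_zero]⟩).symm
            map_add' := fun c c' => (hu _ (d c + d c') ⟨by
              rw [map_add, ← (hd c).1, ← (hd c').1, TensorProduct.add_tmul], by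
              rw [map_add, ← (hd c).2, ← (hd c').2, TensorProduct.add_tmul]⟩).symm },
    ⟨RingHom.ext fun c => (hd c).1, RingHom.ext fun c => (hd c).2⟩,
    fun m hm => RingHom.ext fun c => hu c (m c) ⟨RingHom.congr_fun hm.1 c, RingHom.congr_fun hm.2 c⟩⟩

/-- Every field-valued point of `D` comes from one of the two pieces. -/
theorem exists_hom_field (h : Datum (A' := A') t) {L : Type u} [Field L] [Algebra A L] (m : D →ₐ[A] L) :
    (∃ f : D ⊗[A] Localization.Away t →+* L, f.comp Algebra.TensorProduct.includeLeftRingHom = m.toRingHom) ∨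
    (∃ f : D ⊗[A] A' →+* L, f.comp Algebra.TensorProduct.includeLeftRingHom = m.toRingHom) := by
  by_cases ht : algebraMap A L t = 0
  · right
    let I := Ideal.map (algebraMap A A') (Ideal.span {t} ^ 1)
    let e := RingEquiv.ofBijective _ (h.quot 1)
    let l : A ⧸ (Ideal.span {t} ^ 1) →+* L := Ideal.Quotient.lift _ (algebraMap A L) (fun a ha => by
      rw [pow_one, Ideal.mem_span_singleton] at ha
      obtain ⟨c, rfl⟩ := ha
      rw [map_mul, ht, zero_mul])
    let l' : A' →ₐ[A] L :=
      { (l.comp e.symm.toRingHom).comp (Ideal.Quotient.mk I) with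
        commutes' := fun a => by
          show l (e.symm (Ideal.Quotient.mk I (algebraMap A A' a))) = algebraMap A L a
          rw [show Ideal.Quotient.mk I (algebraMap A A' a) = e (Ideal.Quotient.mk _ a) from rfl,
            RingEquiv.symm_apply_apply]
          rfl }
    exact ⟨(Algebra.TensorProduct.lift m l' fun _ _ => Commute.all _ _).toRingHom,
      RingHom.ext fun d => by simp⟩
  · left
    let l : Localization.Away t →ₐ[A] L :=
      { IsLocalization.Away.lift t (g := algebraMap A L) (isUnit_iff_ne_zero.2 ht) with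
        commutes' := fun a => IsLocalization.Away.lift_eq t _ a }
    exact ⟨(Algebra.TensorProduct.lift m l fun _ _ => Commute.all _ _).toRingHom,
      RingHom.ext fun d => by simp⟩

end Groth.Agent.DerGlue25
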