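import Groth.Agent.Lib.DerGlue25.Ring
import Mathlib.AlgebraicGeometry.QuasiAffine
import Mathlib.AlgebraicGeometry.Morphisms.Flat
import Mathlib.AlgebraicGeometry.Pullbacks
import Mathlib.CategoryTheory.Monoidal.Cartesian.Over

/-!
# Glueing along a derived adic isomorphism: points of quasi-affine schemes
-/

set_option autoImplicit false
set_option linter.style.haveILetI false
set_option backward.isDefEq.respectTransparency false
set_option backward.isDefEq.respectTransparency.types false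

universe u

open CategoryTheory CategoryTheory.Limits MonoidalCategory CartesianMonoidalCategory AlgebraicGeometry TensorProduct

noncomputable section

namespace Groth.Agent.DerGlue25

theorem exists_specHom_preimage {C : CommRingCat.{u}} {R : Type u} [CommRing R] (f : Spec (CommRingCat.of R) ⟶ Spec C) :
    ∃ g : C →+* R, Spec.map (CommRingCat.ofHom g) = f :=
  ⟨(Spec.preimage f).hom, Spec.map_preimage f⟩

variable {A A' : Type u} [CommRing A] [CommRing A'] [Algebra A A'] (t : A)

theorem existsUnique_specHom (h : Datum (A' := A') t) {Y : Scheme.{u}} [Y.IsQuasiAffine] (D : Type u) [CommRing D]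
    [Algebra A D] [Module.Flat A D]
    (a : Spec (CommRingCat.of (D ⊗[A] Localization.Away t)) ⟶ Y) (b : Spec (CommRingCat.of (D ⊗[A] A')) ⟶ Y)
    (hab : Spec.map (CommRingCat.ofHom (Algebra.TensorProduct.map (AlgHom.id A D) (psi (A' := A') t)).toRingHom) ≫ a =
      Spec.map (CommRingCat.ofHom (Algebra.TensorProduct.map (AlgHom.id A D) (iota t)).toRingHom) ≫ b) :
    ∃! m : Spec (CommRingCat.of D) ⟶ Y,
      Spec.map (CommRingCat.ofHom Algebra.TensorProduct.includeLeftRingHom) ≫ m = a ∧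
      Spec.map (CommRingCat.ofHom Algebra.TensorProduct.includeLeftRingHom) ≫ m = b := by
  obtain ⟨a', ha'⟩ := exists_specHom_preimage (a ≫ Y.toSpecΓ)
  obtain ⟨b', hb'⟩ := exists_specHom_preimage (b ≫ Y.toSpecΓ)
  have e : CommRingCat.ofHom a' ≫ CommRingCat.ofHom (Algebra.TensorProduct.map (AlgHom.id A D) (psi (A' := A') t)).toRingHom =
      CommRingCat.ofHom b' ≫ CommRingCat.ofHom (Algebra.TensorProduct.map (AlgHom.id A D) (iota t)).toRingHom :=
    Spec.map_injective (by rw [Spec.map_comp, Spec.map_comp, ha', hb', reassoc_of% hab])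
  obtain ⟨m, ⟨hma, hmb⟩, hu⟩ := existsUnique_ringHom t D h a' b' (congrArg CommRingCat.Hom.hom e)
  let M := Spec.map (CommRingCat.ofHom m)
  have hMa : Spec.map (CommRingCat.ofHom (Algebra.TensorProduct.includeLeftRingHom (R := A) (A := D) (B := Localization.Away t))) ≫ M =
      a ≫ Y.toSpecΓ := by rw [← ha', ← hma, CommRingCat.ofHom_comp, Spec.map_comp]
  have hMb : Spec.map (CommRingCat.ofHom (Algebra.TensorProduct.includeLeftRingHom (R := A) (A := D) (B := A'))) ≫ M =
      b ≫ Y.toSpecΓ := by rw [← hb', ← hmb, CommRingCat.ofHom_comp, Spec.map_comp]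
  have hrange : Set.range M ⊆ Set.range Y.toSpecΓ := by
    rintro _ ⟨P, rfl⟩
    let L := IsLocalRing.ResidueField (Localization.AtPrime (P : PrimeSpectrum D).asIdeal)
    let π : D →ₐ[A] L := (IsScalarTower.toAlgHom A (Localization.AtPrime (P : PrimeSpectrum D).asIdeal) L).comp
      (IsScalarTower.toAlgHom A D _)
    have hπ : ∀ z, (Spec.map (CommRingCat.ofHom π.toRingHom)) z = P := by
      intro z
      refine PrimeSpectrum.ext ?_
      show Ideal.comap π.toRingHom (z : PrimeSpectrum L).asIdeal = _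
      rw [((Ideal.eq_bot_or_top (z : PrimeSpectrum L).asIdeal).resolve_right (z : PrimeSpectrum L).isPrime.ne_top)]
      ext d
      simp only [Ideal.mem_comap, Ideal.mem_bot]
      show IsLocalRing.residue _ (algebraMap D _ d) = 0 ↔ _
      rw [IsLocalRing.residue_eq_zero_iff, IsLocalization.AtPrime.to_map_mem_maximal_iff (Localization.AtPrime (P : PrimeSpectrum D).asIdeal) (P : PrimeSpectrum D).asIdeal]
    obtain ⟨z⟩ : Nonempty (Spec (CommRingCat.of L)) := inferInstanceAs (Nonempty (PrimeSpectrum L))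
    rw [← hπ z]
    rcases exists_hom_field t D h π with ⟨f, hf⟩ | ⟨f, hf⟩
    · rw [← hf, CommRingCat.ofHom_comp, Spec.map_comp, Scheme.Hom.comp_apply, ← Scheme.Hom.comp_apply _ M, hMa]
      exact ⟨_, (Scheme.Hom.comp_apply _ _ _).symm⟩
    · rw [← hf, CommRingCat.ofHom_comp, Spec.map_comp, Scheme.Hom.comp_apply, ← Scheme.Hom.comp_apply _ M, hMb]
      exact ⟨_, (Scheme.Hom.comp_apply _ _ _).symm⟩
  let n := IsOpenImmersion.lift Y.toSpecΓ M hrange
  have hn : n ≫ Y.toSpecΓ = M := IsOpenImmersion.lift_fac _ _ _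
  refine ⟨n, ⟨?_, ?_⟩, fun n' hn' => ?_⟩
  · rw [← cancel_mono Y.toSpecΓ, Category.assoc, hn, hMa]
  · rw [← cancel_mono Y.toSpecΓ, Category.assoc, hn, hMb]
  · obtain ⟨m', hm'⟩ := exists_specHom_preimage (n' ≫ Y.toSpecΓ)
    rw [← cancel_mono Y.toSpecΓ, hn, ← hm']
    have : m' = m := hu m' ⟨?_, ?_⟩
    · rw [this]
    · exact congrArg CommRingCat.Hom.hom (Spec.map_injective
        (a₁ := CommRingCat.ofHom (Algebra.TensorProduct.includeLeftRingHom.comp m')) (a₂ := CommRingCat.ofHom a')
        (by rw [CommRingCat.ofHom_comp, Spec.map_comp, hm', ha', ← Category.assoc, hn'.1]))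
    · exact congrArg CommRingCat.Hom.hom (Spec.map_injective
        (a₁ := CommRingCat.ofHom (Algebra.TensorProduct.includeLeftRingHom.comp m')) (a₂ := CommRingCat.ofHom b')
        (by rw [CommRingCat.ofHom_comp, Spec.map_comp, hm', hb', ← Category.assoc, hn'.2]))

/-- Points of a quasi-affine scheme over an affine flat test object glue. -/
theorem existsUnique_point (h : Datum (A' := A') t) {T Y : Over (Spec (CommRingCat.of A))} [IsAffine T.left]
    [Flat T.hom] [Y.left.IsQuasiAffine]
    {gU : Spec (CommRingCat.of (Localization.Away t)) ⟶ Spec (CommRingCat.of A)}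
    (hgU : gU = Spec.map (CommRingCat.ofHom (algebraMap A (Localization.Away t))))
    {g' : Spec (CommRingCat.of A') ⟶ Spec (CommRingCat.of A)}
    (hg' : g' = Spec.map (CommRingCat.ofHom (algebraMap A A')))
    {g'' : Spec (CommRingCat.of (Localization.Away (algebraMap A A' t))) ⟶ Spec (CommRingCat.of A)}
    (jU : Over.mk g'' ⟶ Over.mk gU) (hjU : jU.left = Spec.map (CommRingCat.ofHom (psi (A' := A') t).toRingHom))
    (j' : Over.mk g'' ⟶ Over.mk g') (hj' : j'.left = Spec.map (CommRingCat.ofHom (iota (A' := A') t).toRingHom))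
    (a : T ⊗ Over.mk gU ⟶ Y) (b : T ⊗ Over.mk g' ⟶ Y) (hab : (T ◁ jU) ≫ a = (T ◁ j') ≫ b) :
    ∃! m : T ⟶ Y, fst T (Over.mk gU) ≫ m = a ∧ fst T (Over.mk g') ≫ m = b := by
  subst hgU hg'
  let D := Γ(T.left, ⊤)
  let χ : CommRingCat.of A ⟶ D := Spec.preimage (T.left.isoSpec.inv ≫ T.hom)
  letI : Algebra A D := χ.hom.toAlgebra
  let e : Spec (CommRingCat.of D) ≅ T.left := T.left.isoSpec.symm
  have he : Spec.map (CommRingCat.ofHom (algebraMap A D)) = e.hom ≫ T.hom := Spec.map_preimage _
  haveI : Module.Flat A D := by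
    haveI : Flat (Spec.map (CommRingCat.ofHom (algebraMap A D))) := by rw [he]; infer_instance
    exact RingHom.flat_algebraMap_iff.1 (HasRingHomProperty.Spec_iff.1 ‹Flat (Spec.map _)›)
  have h'' : g'' = Spec.map (CommRingCat.ofHom (algebraMap A (Localization.Away (algebraMap A A' t)))) := by
    rw [show g'' = j'.left ≫ Spec.map (CommRingCat.ofHom (algebraMap A A')) from (Over.w j').symm, hj',
      ← Spec.map_comp, ← CommRingCat.ofHom_comp]
    rfl
  have mkE : ∀ (R : Type u) [CommRing R] [Algebra A R] (g : Spec (CommRingCat.of R) ⟶ Spec (CommRingCat.of A)),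
      g = Spec.map (CommRingCat.ofHom (algebraMap A R)) →
      ∃ E : Spec (CommRingCat.of (D ⊗[A] R)) ⟶ (T ⊗ Over.mk g).left, IsIso E ∧
        E ≫ (fst T (Over.mk g)).left = Spec.map (CommRingCat.ofHom Algebra.TensorProduct.includeLeftRingHom) ≫ e.hom ∧
        E ≫ (snd T (Over.mk g)).left = Spec.map (CommRingCat.ofHom (RingHomClass.toRingHom
          (Algebra.TensorProduct.includeRight (R := A) (A := D) (B := R)))) := by
    intro R _ _ g hg
    subst hg
    let M : Limits.pullback (Spec.map (CommRingCat.ofHom (algebraMap A D))) (Spec.map (CommRingCat.ofHom (algebraMap A R))) ⟶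
        (T ⊗ Over.mk (Spec.map (CommRingCat.ofHom (algebraMap A R)))).left :=
      pullback.map _ _ _ _ e.hom (𝟙 _) (𝟙 _) (by rw [Category.comp_id, he]) (by simp)
    haveI : IsIso M := pullback.map_isIso _ _ _ _ _ _ _ _ _
    refine ⟨(pullbackSpecIso A D R).inv ≫ M, inferInstance, ?_, ?_⟩
    · rw [Category.assoc]
      show (pullbackSpecIso A D R).inv ≫ M ≫ pullback.fst _ _ = _
      simp only [M, pullback.lift_fst]
      exact (Category.assoc _ _ _).symm.trans (congrArg (· ≫ e.hom) (pullbackSpecIso_inv_fst ..))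
    · rw [Category.assoc]
      show (pullbackSpecIso A D R).inv ≫ M ≫ pullback.snd _ _ = _
      simp only [M, pullback.lift_snd, Category.comp_id]
      exact pullbackSpecIso_inv_snd ..
  obtain ⟨EU, _, hEU1, hEU2⟩ := mkE (Localization.Away t) _ rfl
  obtain ⟨E', _, hE'1, hE'2⟩ := mkE A' _ rfl
  obtain ⟨E'', _, hE''1, hE''2⟩ := mkE (Localization.Away (algebraMap A A' t)) g'' h''
  have hnat : ∀ {R : Type u} [CommRing R] [Algebra A R] {g : Spec (CommRingCat.of R) ⟶ Spec (CommRingCat.of A)}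
      (E : Spec (CommRingCat.of (D ⊗[A] R)) ⟶ (T ⊗ Over.mk g).left)
      (_ : E ≫ (fst T (Over.mk g)).left = Spec.map (CommRingCat.ofHom Algebra.TensorProduct.includeLeftRingHom) ≫ e.hom)
      (_ : E ≫ (snd T (Over.mk g)).left = Spec.map (CommRingCat.ofHom (RingHomClass.toRingHom
          (Algebra.TensorProduct.includeRight (R := A) (A := D) (B := R)))))
      (f : R →ₐ[A] Localization.Away (algebraMap A A' t)) (j : Over.mk g'' ⟶ Over.mk g)
      (_ : j.left = Spec.map (CommRingCat.ofHom f.toRingHom)),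
      E'' ≫ (T ◁ j).left = Spec.map (CommRingCat.ofHom (Algebra.TensorProduct.map (AlgHom.id A D) f).toRingHom) ≫ E := by
    intro R _ _ g E hE1 hE2 f j hj
    apply pullback.hom_ext
    · show (E'' ≫ (T ◁ j).left) ≫ (fst T (Over.mk g)).left = (_ ≫ E) ≫ (fst T (Over.mk g)).left
      rw [Category.assoc, ← Over.comp_left, whiskerLeft_fst, hE''1, Category.assoc, hE1, ← Category.assoc,
        ← Spec.map_comp, ← CommRingCat.ofHom_comp]
      congr 3
      ext d
      simp
    · show (E'' ≫ (T ◁ j).left) ≫ (snd T (Over.mk g)).left = (_ ≫ E) ≫ (snd T (Over.mk g)).left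
      rw [Category.assoc, ← Over.comp_left, whiskerLeft_snd, Over.comp_left, ← Category.assoc, hE''2, Category.assoc,
        hE2, hj, ← Spec.map_comp, ← Spec.map_comp, ← CommRingCat.ofHom_comp, ← CommRingCat.ofHom_comp]
      congr 2
  have hnU := hnat EU hEU1 hEU2 (psi t) jU hjU
  have hn' := hnat E' hE'1 hE'2 (iota t) j' hj'
  have hab' : Spec.map (CommRingCat.ofHom (Algebra.TensorProduct.map (AlgHom.id A D) (psi (A' := A') t)).toRingHom) ≫ EU ≫ a.left =
      Spec.map (CommRingCat.ofHom (Algebra.TensorProduct.map (AlgHom.id A D) (iota t)).toRingHom) ≫ E' ≫ b.left := by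
    rw [← reassoc_of% hnU, ← reassoc_of% hn', ← Over.comp_left, ← Over.comp_left, hab]
  obtain ⟨m, ⟨hma, hmb⟩, hu⟩ := existsUnique_specHom t h D (EU ≫ a.left) (E' ≫ b.left) hab'
  have hw : m ≫ Y.hom = e.hom ≫ T.hom := by
    refine (existsUnique_specHom t h D (EU ≫ a.left ≫ Y.hom) (E' ≫ b.left ≫ Y.hom)
      (by rw [reassoc_of% hab'])).unique ?_ ?_
    · exact ⟨by rw [reassoc_of% hma], by rw [reassoc_of% hmb]⟩
    · refine ⟨?_, ?_⟩
      · rw [Over.w a, ← Over.w (fst T _), reassoc_of% hEU1]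
      · rw [Over.w b, ← Over.w (fst T _), reassoc_of% hE'1]
  refine ⟨Over.homMk (e.inv ≫ m) (by rw [Category.assoc, hw, Iso.inv_hom_id_assoc]), ⟨?_, ?_⟩, fun m' hm' => ?_⟩
  · refine Over.OverMorphism.ext ?_
    rw [← cancel_epi EU, Over.comp_left]
    show EU ≫ (fst T _).left ≫ e.inv ≫ m = _
    rw [reassoc_of% hEU1, Iso.hom_inv_id_assoc, hma]
  · refine Over.OverMorphism.ext ?_
    rw [← cancel_epi E', Over.comp_left]
    show E' ≫ (fst T _).left ≫ e.inv ≫ m = _
    rw [reassoc_of% hE'1, Iso.hom_inv_id_assoc, hmb]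
  · refine Over.OverMorphism.ext ?_
    show m'.left = e.inv ≫ m
    rw [← hu (e.hom ≫ m'.left) ⟨?_, ?_⟩, Iso.inv_hom_id_assoc]
    · rw [← Category.assoc, ← hEU1, Category.assoc, ← Over.comp_left, hm'.1]
    · rw [← Category.assoc, ← hE'1, Category.assoc, ← Over.comp_left, hm'.2]

end Groth.Agent.DerGlue25
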