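import Groth.Agent.Lib.DerGlue25.Scheme
import Groth.Agent.Lib.IsomTors25.Basic

/-!
# Glueing equivariant isomorphisms of torsors along a derived adic isomorphism
-/

set_option autoImplicit false
set_option linter.style.haveILetI false
set_option backward.isDefEq.respectTransparency false
set_option backward.isDefEq.respectTransparency.types false

universe u

open CategoryTheory CategoryTheory.Limits MonoidalCategory CartesianMonoidalCategory MonObj GrpObj AlgebraicGeometry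

noncomputable section

namespace Groth.Agent.DerGlue25

open TorsorSch25 IsomTors25

section General

variable {S : Scheme.{u}} {G P Q : Over S} [GrpObj G] {a : AlgGrp.Action G P} {b : AlgGrp.Action G Q}

/-- An equivariant morphism from compatible values on a covering. -/
theorem exists_hom_of_compatible (ha : NonAbH1.IsPseudoTorsorSch a)
    {T : Over S} [Flat T.hom] [Surjective T.hom] [QuasiCompact T.hom] (p : T ⟶ P) (q : T ⟶ Q)
    (K : ∀ {W : Over S} (b₁ b₂ : W ⟶ T) (γ : W ⟶ G), lift γ (b₁ ≫ p) ≫ a.act = b₂ ≫ p →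
      lift γ (b₁ ≫ q) ≫ b.act = b₂ ≫ q) :
    ∃ φ : P ⟶ Q, a.act ≫ φ = (G ◁ φ) ≫ b.act ∧ p ≫ φ = q := by
  have hR : Presieve.singleton (fst P T).left ∈ Scheme.fpqcPrecoverage P.left := by
    haveI : Flat (fst P T).left := inferInstanceAs (Flat (pullback.fst P.hom T.hom))
    haveI : Surjective (fst P T).left := inferInstanceAs (Surjective (pullback.fst P.hom T.hom))
    haveI : QuasiCompact (fst P T).left := inferInstanceAs (QuasiCompact (pullback.fst P.hom T.hom))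
    exact Scheme.Hom.singleton_mem_fpqcPrecoverage _
  have hpiece : ∀ ⦃T' : Over S⦄ (f : T' ⟶ P), Presieve.singleton (fst P T).left f.left →
      ∃ i : T' ⟶ P ⊗ T, i ≫ fst P T = f := by
    intro T' f hf
    obtain ⟨i, hi⟩ : ∃ i : T'.left ⟶ (P ⊗ T).left, i ≫ (fst P T).left = f.left := by
      have key : ∀ {V U U' : Scheme.{u}} (u : U ⟶ V) (v : U' ⟶ V), Presieve.singleton u v → ∃ i, i ≫ u = v := by
        rintro V U U' u v ⟨⟩
        exact ⟨𝟙 _, Category.id_comp _⟩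
      exact key _ _ hf
    exact ⟨Over.homMk i (by rw [← Over.w (fst P T), reassoc_of% hi, Over.w f]), Over.OverMorphism.ext hi⟩
  obtain ⟨φ, hφ⟩ := exists_glue (T := P) (Z := Q)
    (fun T' f z => ∀ ⦃W : Over S⦄ (c : W ⟶ T') (b₁ : W ⟶ T) (γ : W ⟶ G),
      lift γ (b₁ ≫ p) ≫ a.act = c ≫ f → c ≫ z = lift γ (b₁ ≫ q) ≫ b.act)
    (fun T' T'' i f z h W c b₁ γ hW => by
      rw [← Category.assoc]
      exact h (c ≫ i) b₁ γ (by rw [hW, Category.assoc]))
    (fun T' f z z' hz hz' => by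
      obtain ⟨R', hR', hR''⟩ := exists_cover_over (T.hom.singleton_mem_fpqcPrecoverage) T'
      refine hom_ext_of_cover hR' fun W c hc => ?_
      obtain ⟨b₁⟩ := hR'' (X := T) (fun S'' u hu => by
        obtain ⟨⟩ := hu
        exact ⟨𝟙 _, Category.id_comp _⟩) c hc
      obtain ⟨γ, hγ, -⟩ := existsUnique_smul ha (b₁ ≫ p) (c ≫ f)
      rw [hz c b₁ γ hγ, hz' c b₁ γ hγ])
    hR (fun T' f hf => by
      obtain ⟨i, -⟩ := hpiece f hf
      let b₀ := i ≫ snd P T
      obtain ⟨γ₀, hγ₀, -⟩ := existsUnique_smul ha (b₀ ≫ p) f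
      refine ⟨lift γ₀ (b₀ ≫ q) ≫ b.act, fun W c b₁ γ hW => ?_⟩
      rw [← hγ₀, comp_lift_assoc] at hW
      rw [comp_lift_assoc]
      have h1 : lift (γ⁻¹ * (c ≫ γ₀)) ((c ≫ b₀) ≫ p) ≫ a.act = b₁ ≫ p := by
        rw [Category.assoc, AlgGrp.Action.lift_mul_act, ← hW, ← AlgGrp.Action.lift_mul_act,
          _root_.inv_mul_cancel, AlgGrp.Action.lift_one_act]
      have h2 := K (c ≫ b₀) b₁ _ h1
      rw [← h2, ← AlgGrp.Action.lift_mul_act, mul_inv_cancel_left]; simp only [b₀, Category.assoc])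
  have main : ∀ ⦃W : Over S⦄ (x : W ⟶ P) (b₁ : W ⟶ T) (γ : W ⟶ G),
      lift γ (b₁ ≫ p) ≫ a.act = x → x ≫ φ = lift γ (b₁ ≫ q) ≫ b.act := by
    intro W x b₁ γ hW
    have h := hφ (fst P T) (Presieve.singleton_self _) (lift x b₁) b₁ γ (by rw [hW, lift_fst])
    rwa [lift_fst_assoc] at h
  refine ⟨φ, ?_, ?_⟩
  · obtain ⟨R', hR', hR''⟩ := exists_cover_over (T.hom.singleton_mem_fpqcPrecoverage) (G ⊗ P)
    refine hom_ext_of_cover hR' fun W c hc => ?_
    obtain ⟨b₁⟩ := hR'' (X := T) (fun S'' u hu => by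
      obtain ⟨⟩ := hu
      exact ⟨𝟙 _, Category.id_comp _⟩) c hc
    obtain ⟨γ, hγ, -⟩ := existsUnique_smul ha (b₁ ≫ p) (c ≫ snd G P)
    have hc' : c = lift (c ≫ fst G P) (c ≫ snd G P) := by rw [← comp_lift, lift_fst_snd, Category.comp_id]
    rw [hc', lift_whiskerLeft_assoc, main _ b₁ γ hγ, ← Category.assoc,
      main (lift (c ≫ fst G P) (c ≫ snd G P) ≫ a.act) b₁ ((c ≫ fst G P) * γ)
        (by rw [AlgGrp.Action.lift_mul_act, hγ]), AlgGrp.Action.lift_mul_act]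
  · have h := main p (𝟙 T) 1 (by rw [AlgGrp.Action.lift_one_act, Category.id_comp])
    rwa [AlgGrp.Action.lift_one_act, Category.id_comp] at h

/-- The value of a morphism given over the base is the composite. -/
theorem evalAt_map {S' : Scheme.{u}} (g : S' ⟶ S) (φ : P ⟶ Q) {V : Over S} (x : V ⟶ P) (c : V ⟶ Over.mk g) :
    evalAt g ((Over.pullback g).map φ) x c = x ≫ φ := by
  refine Over.OverMorphism.ext ?_
  simp [evalAt]

/-- Morphisms of base changes agree when their values agree. -/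
theorem map_eq_of_evalAt {S' : Scheme.{u}} (g : S' ⟶ S) (φ : P ⟶ Q) (e : Red.bc g P ⟶ Red.bc g Q)
    (h : ∀ {V : Over S} (x : V ⟶ P) (c : V ⟶ Over.mk g), evalAt g e x c = x ≫ φ) :
    (Over.pullback g).map φ = e := by
  let V : Over S := Over.mk ((Red.bc g P).hom ≫ g)
  let x : V ⟶ P := Over.homMk (pullback.fst P.hom g) pullback.condition
  let c : V ⟶ Over.mk g := Over.homMk (Red.bc g P).hom
  have h1 := congrArg (fun m => m.left) (h x c)
  refine Over.OverMorphism.ext (pullback.hom_ext ?_ ?_)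
  · have hid : pullback.lift (pullback.fst P.hom g) (pullback.snd P.hom g) pullback.condition = 𝟙 _ :=
      pullback.hom_ext (by simp) (by simp)
    simp only [evalAt, x, c, Over.homMk_left, Over.comp_left] at h1
    have hsimp : pullback.lift (pullback.fst P.hom g) (Red.bc g P).hom pullback.condition ≫ e.left ≫ pullback.fst Q.hom g =
        e.left ≫ pullback.fst Q.hom g := by
      rw [show pullback.lift (pullback.fst P.hom g) (Red.bc g P).hom pullback.condition = 𝟙 _ from hid]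
      exact Category.id_comp _
    show ((Over.pullback g).map φ).left ≫ pullback.fst Q.hom g = e.left ≫ pullback.fst Q.hom g
    refine Eq.trans ?_ hsimp
    refine Eq.trans ?_ h1.symm
    simp
  · exact (Over.w ((Over.pullback g).map φ)).trans (Over.w e).symm

/-- Values of compatible morphisms over a further base change agree. -/
theorem evalAt_comp {S₁ S₂ : Scheme.{u}} (g : S₁ ⟶ S) (f : S₂ ⟶ S₁) {d : S₂ ⟶ S} (h : f ≫ g = d)
    (e : NonAbH1.EquivIso (a.bc g) (b.bc g)) {V : Over S} (x : V ⟶ P) (c : V ⟶ Over.mk d)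
    (j : Over.mk d ⟶ Over.mk g) (hj : j.left = f) :
    evalAt g e.iso.hom x (c ≫ j) = evalAt d
      ((ActBC.bcCompIso f g P h).inv ≫ (NonAbH1.EquivIso.bc f e).iso.hom ≫ (ActBC.bcCompIso f g Q h).hom) x c := by
  refine Over.OverMorphism.ext ?_
  subst h
  simp only [evalAt, hj, Over.homMk_left, Over.comp_left, NonAbH1.EquivIso.bc, Functor.mapIso_hom, Category.assoc,
    ActBC.bcCompIso_hom_left_fst]
  simp only [Over.pullback_map_left, Category.assoc, pullback.lift_fst_assoc]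
  simp only [← Category.assoc]
  congr 2
  apply pullback.hom_ext <;> simp [ActBC.bcCompIso, Category.assoc]

end General

variable {A A' : Type u} [CommRing A] [CommRing A'] [Algebra A A'] (t : A) (hD : Datum (A' := A') t)
  {G : Over (Spec (CommRingCat.of A))} [GrpObj G] [Flat G.hom] [G.left.IsQuasiAffine]
  {gU : Spec (CommRingCat.of (Localization.Away t)) ⟶ Spec (CommRingCat.of A)}
  (hgU : gU = Spec.map (CommRingCat.ofHom (algebraMap A (Localization.Away t))))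
  {g' : Spec (CommRingCat.of A') ⟶ Spec (CommRingCat.of A)}
  (hg' : g' = Spec.map (CommRingCat.ofHom (algebraMap A A')))
  {g'' : Spec (CommRingCat.of (Localization.Away (algebraMap A A' t))) ⟶ Spec (CommRingCat.of A)}
  (jU : Over.mk g'' ⟶ Over.mk gU) (hjU : jU.left = Spec.map (CommRingCat.ofHom (psi (A' := A') t).toRingHom))
  (j' : Over.mk g'' ⟶ Over.mk g') (hj' : j'.left = Spec.map (CommRingCat.ofHom (iota (A' := A') t).toRingHom))
  {P Q : Over (Spec (CommRingCat.of A))} {a : AlgGrp.Action G P} {b : AlgGrp.Action G Q}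
  (ha : NonAbH1.IsTorsorFor Scheme.fpqcPrecoverage a) (hb : NonAbH1.IsTorsorFor Scheme.fpqcPrecoverage b)

omit [GrpObj G] [Flat G.hom] [G.left.IsQuasiAffine] in
theorem exists_test {G : Over (Spec (CommRingCat.of A))} [GrpObj G] {a : AlgGrp.Action G P} {b : AlgGrp.Action G Q}
    (ha : NonAbH1.IsTorsorFor Scheme.fpqcPrecoverage a) (hb : NonAbH1.IsTorsorFor Scheme.fpqcPrecoverage b) :
    ∃ (T : Over (Spec (CommRingCat.of A))) (_ : IsAffine T.left) (_ : Flat T.hom) (_ : Surjective T.hom)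
      (_ : QuasiCompact T.hom), Nonempty (T ⟶ P) ∧ Nonempty (T ⟶ Q) := by
  obtain ⟨R₁, hR₁, hs₁⟩ := ha.2
  obtain ⟨R₂, hR₂, hs₂⟩ := hb.2
  obtain ⟨W₁, w₁, _, _, _, _, hW₁⟩ := exists_affine_test hR₁ (isAffineOpen_top (Spec (CommRingCat.of A)))
  obtain ⟨W₂, w₂, _, _, _, _, hW₂⟩ := exists_affine_test hR₂ (isAffineOpen_top (Spec (CommRingCat.of A)))
  haveI : IsIso (⊤ : (Spec (CommRingCat.of A)).Opens).ι := (Scheme.topIso _).isIso_hom
  obtain ⟨s₁, hs₁'⟩ := hW₁ P hs₁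
  obtain ⟨s₂, hs₂'⟩ := hW₂ Q hs₂
  let T₁ : Over (Spec (CommRingCat.of A)) := Over.mk (w₁ ≫ Scheme.Opens.ι _)
  let T₂ : Over (Spec (CommRingCat.of A)) := Over.mk (w₂ ≫ Scheme.Opens.ι _)
  haveI : Flat T₁.hom := inferInstanceAs (Flat (w₁ ≫ _))
  haveI : Flat T₂.hom := inferInstanceAs (Flat (w₂ ≫ _))
  haveI : Surjective T₁.hom := inferInstanceAs (Surjective (w₁ ≫ _))
  haveI : Surjective T₂.hom := inferInstanceAs (Surjective (w₂ ≫ _))
  haveI : QuasiCompact T₁.hom := inferInstanceAs (QuasiCompact (w₁ ≫ _))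
  haveI : QuasiCompact T₂.hom := inferInstanceAs (QuasiCompact (w₂ ≫ _))
  haveI : IsAffine T₁.left := ‹IsAffine W₁›
  haveI : IsAffine T₂.left := ‹IsAffine W₂›
  exact ⟨T₁ ⊗ T₂, inferInstanceAs (IsAffine (pullback T₁.hom T₂.hom)),
    inferInstanceAs (Flat (pullback.fst T₁.hom T₂.hom ≫ T₁.hom)),
    inferInstanceAs (Surjective (pullback.fst T₁.hom T₂.hom ≫ T₁.hom)),
    inferInstanceAs (QuasiCompact (pullback.fst T₁.hom T₂.hom ≫ T₁.hom)),
    ⟨fst T₁ T₂ ≫ Over.homMk s₁ hs₁'⟩, ⟨snd T₁ T₂ ≫ Over.homMk s₂ hs₂'⟩⟩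

include hD hgU hg' hjU hj' ha hb in
/-- Equivariant isomorphisms glue uniquely. -/
theorem existsUnique_hom (αU : NonAbH1.EquivIso (a.bc gU) (b.bc gU)) (α' : NonAbH1.EquivIso (a.bc g') (b.bc g'))
    (hagree : ∀ {V : Over (Spec (CommRingCat.of A))} (x : V ⟶ P) (c : V ⟶ Over.mk g''),
      evalAt gU αU.iso.hom x (c ≫ jU) = evalAt g' α'.iso.hom x (c ≫ j')) :
    ∃! φ : P ⟶ Q, a.act ≫ φ = (G ◁ φ) ≫ b.act ∧
      (Over.pullback gU).map φ = αU.iso.hom ∧ (Over.pullback g').map φ = α'.iso.hom := by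
  obtain ⟨T, _, _, _, _, ⟨p⟩, ⟨q⟩⟩ := exists_test ha hb
  let γU : T ⊗ Over.mk gU ⟶ G := diff hb.1 (fst _ _ ≫ q) (evalAt gU αU.iso.hom (fst _ _ ≫ p) (snd _ _))
  let γ' : T ⊗ Over.mk g' ⟶ G := diff hb.1 (fst _ _ ≫ q) (evalAt g' α'.iso.hom (fst _ _ ≫ p) (snd _ _))
  have hag : (T ◁ jU) ≫ γU = (T ◁ j') ≫ γ' := by
    rw [diff_nat, diff_nat, evalAt_nat, evalAt_nat, whiskerLeft_fst_assoc, whiskerLeft_fst_assoc,
      whiskerLeft_fst_assoc, whiskerLeft_fst_assoc, whiskerLeft_snd, whiskerLeft_snd, hagree]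
  obtain ⟨γ, ⟨hγU, hγ'⟩, -⟩ := existsUnique_point t hD hgU hg' jU hjU j' hj' γU γ' hag
  obtain ⟨q₀, hq₀⟩ : ∃ q₀ : T ⟶ Q, q₀ = lift γ q ≫ b.act := ⟨_, rfl⟩
  have hq₀U : fst T (Over.mk gU) ≫ q₀ = evalAt gU αU.iso.hom (fst _ _ ≫ p) (snd _ _) := by
    rw [hq₀]
    rw [comp_lift_assoc, hγU, diff_spec]
  have hq₀' : fst T (Over.mk g') ≫ q₀ = evalAt g' α'.iso.hom (fst _ _ ≫ p) (snd _ _) := by
    rw [hq₀]
    rw [comp_lift_assoc, hγ', diff_spec]
  have hvU : ∀ {V : Over (Spec (CommRingCat.of A))} (b₁ : V ⟶ T) (c : V ⟶ Over.mk gU),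
      b₁ ≫ q₀ = evalAt gU αU.iso.hom (b₁ ≫ p) c := by
    intro V b₁ c
    have := congrArg (lift b₁ c ≫ ·) hq₀U
    simpa only [evalAt_nat, lift_fst_assoc, lift_snd] using this
  have hv' : ∀ {V : Over (Spec (CommRingCat.of A))} (b₁ : V ⟶ T) (c : V ⟶ Over.mk g'),
      b₁ ≫ q₀ = evalAt g' α'.iso.hom (b₁ ≫ p) c := by
    intro V b₁ c
    have := congrArg (lift b₁ c ≫ ·) hq₀'
    simpa only [evalAt_nat, lift_fst_assoc, lift_snd] using this
  -- uniqueness of elements of `G` on affine flat objects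
  have hone : ∀ {V : Over (Spec (CommRingCat.of A))} [IsAffine V.left] [Flat V.hom] (e : V ⟶ G),
      fst V (Over.mk gU) ≫ e = 1 → fst V (Over.mk g') ≫ e = 1 → e = 1 := by
    intro V _ _ e h1 h2
    exact (existsUnique_point t hD hgU hg' jU hjU j' hj' (T := V) (1 : V ⊗ Over.mk gU ⟶ G) 1
      (by rw [MonObj.comp_one, MonObj.comp_one])).unique ⟨h1, h2⟩ ⟨MonObj.comp_one _, MonObj.comp_one _⟩
  haveI : IsAffine (T ⊗ T).left := inferInstanceAs (IsAffine (pullback T.hom T.hom))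
  haveI : Flat (T ⊗ T).hom := inferInstanceAs (Flat (pullback.fst T.hom T.hom ≫ T.hom))
  let du : T ⊗ T ⟶ G := diff ha.1 (fst T T ≫ p) (snd T T ≫ p)
  let eu : T ⊗ T ⟶ G := diff hb.1 (lift du (fst T T ≫ q₀) ≫ b.act) (snd T T ≫ q₀)
  have heu : eu = 1 := by
    refine hone eu ?_ ?_
    · refine smul_cancel hb.1 (x := fst _ (Over.mk gU) ≫ lift du (fst T T ≫ q₀) ≫ b.act) ?_
      rw [AlgGrp.Action.lift_one_act, ← comp_lift_assoc, diff_spec, comp_lift_assoc, ← Category.assoc,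
        ← Category.assoc, hvU _ (snd _ _), hvU _ (snd _ _), ← evalAt_smul]
      congr 1
      rw [Category.assoc, Category.assoc, ← comp_lift_assoc, diff_spec]
    · refine smul_cancel hb.1 (x := fst _ (Over.mk g') ≫ lift du (fst T T ≫ q₀) ≫ b.act) ?_
      rw [AlgGrp.Action.lift_one_act, ← comp_lift_assoc, diff_spec, comp_lift_assoc, ← Category.assoc,
        ← Category.assoc, hv' _ (snd _ _), hv' _ (snd _ _), ← evalAt_smul]
      congr 1
      rw [Category.assoc, Category.assoc, ← comp_lift_assoc, diff_spec]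
  have hu0 : lift du (fst T T ≫ q₀) ≫ b.act = snd T T ≫ q₀ := by
    have := diff_spec hb.1 (lift du (fst T T ≫ q₀) ≫ b.act) (snd T T ≫ q₀)
    rwa [show diff hb.1 (lift du (fst T T ≫ q₀) ≫ b.act) (snd T T ≫ q₀) = 1 from heu,
      AlgGrp.Action.lift_one_act] at this
  have K : ∀ {W : Over (Spec (CommRingCat.of A))} (b₁ b₂ : W ⟶ T) (ee : W ⟶ G),
      lift ee (b₁ ≫ p) ≫ a.act = b₂ ≫ p → lift ee (b₁ ≫ q₀) ≫ b.act = b₂ ≫ q₀ := by
    intro W b₁ b₂ ee hee
    have h1 : lift b₁ b₂ ≫ du = ee := smul_cancel ha.1 (x := b₁ ≫ p) (by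
      rw [hee]
      have := congrArg (fun z => lift b₁ b₂ ≫ z) (diff_spec ha.1 (fst T T ≫ p) (snd T T ≫ p))
      simpa [comp_lift_assoc] using this)
    have := congrArg (fun z => lift b₁ b₂ ≫ z) hu0
    simpa [comp_lift_assoc, h1] using this
  obtain ⟨φ, hφ, hpφ⟩ := exists_hom_of_compatible ha.1 p q₀ K
  have hsm : ∀ {V : Over (Spec (CommRingCat.of A))} (ee : V ⟶ G) (z : V ⟶ P) (ψ : P ⟶ Q)
      (_ : a.act ≫ ψ = (G ◁ ψ) ≫ b.act), (lift ee z ≫ a.act) ≫ ψ = lift ee (z ≫ ψ) ≫ b.act := by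
    intro V ee z ψ hψ
    rw [Category.assoc, hψ, lift_whiskerLeft_assoc]
  have loc : ∀ {V : Over (Spec (CommRingCat.of A))}, ∃ R ∈ Scheme.fpqcPrecoverage V.left,
      ∀ ⦃V' : Over (Spec (CommRingCat.of A))⦄ (v : V' ⟶ V), R v.left → Nonempty (V' ⟶ T) := by
    intro V
    obtain ⟨R', hR', hR''⟩ := exists_cover_over (T.hom.singleton_mem_fpqcPrecoverage) V
    exact ⟨R', hR', fun V' v hv => hR'' (X := T) (fun S'' u hu => by
      obtain ⟨⟩ := hu
      exact ⟨𝟙 _, Category.id_comp _⟩) v hv⟩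
  refine ⟨φ, ⟨hφ, map_eq_of_evalAt gU φ _ ?_, map_eq_of_evalAt g' φ _ ?_⟩, fun ψ hψ => ?_⟩
  · intro V x c
    obtain ⟨R', hR', hR''⟩ := loc (V := V)
    refine hom_ext_of_cover hR' fun V' v hv => ?_
    obtain ⟨b₁⟩ := hR'' v hv
    obtain ⟨ee, hee, -⟩ := existsUnique_smul ha.1 (b₁ ≫ p) (v ≫ x)
    rw [evalAt_nat, ← hee, evalAt_smul, ← hvU, ← Category.assoc v x φ, ← hee, hsm _ _ φ hφ, Category.assoc, hpφ]
  · intro V x c
    obtain ⟨R', hR', hR''⟩ := loc (V := V)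
    refine hom_ext_of_cover hR' fun V' v hv => ?_
    obtain ⟨b₁⟩ := hR'' v hv
    obtain ⟨ee, hee, -⟩ := existsUnique_smul ha.1 (b₁ ≫ p) (v ≫ x)
    rw [evalAt_nat, ← hee, evalAt_smul, ← hv', ← Category.assoc v x φ, ← hee, hsm _ _ φ hφ, Category.assoc, hpφ]
  · obtain ⟨hψe, hψU, hψ'⟩ := hψ
    have hT : p ≫ ψ = q₀ := by
      have he : diff hb.1 (p ≫ ψ) q₀ = 1 := by
        refine hone _ ?_ ?_
        · refine smul_cancel hb.1 (x := fst _ (Over.mk gU) ≫ p ≫ ψ) ?_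
          rw [AlgGrp.Action.lift_one_act, ← comp_lift_assoc, diff_spec, hq₀U, ← Category.assoc,
            ← evalAt_map gU ψ _ (snd _ _), hψU]
        · refine smul_cancel hb.1 (x := fst _ (Over.mk g') ≫ p ≫ ψ) ?_
          rw [AlgGrp.Action.lift_one_act, ← comp_lift_assoc, diff_spec, hq₀', ← Category.assoc,
            ← evalAt_map g' ψ _ (snd _ _), hψ']
      have := diff_spec hb.1 (p ≫ ψ) q₀
      rwa [he, AlgGrp.Action.lift_one_act] at this
    obtain ⟨R', hR', hR''⟩ := loc (V := P)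
    refine hom_ext_of_cover hR' fun V' v hv => ?_
    obtain ⟨b₁⟩ := hR'' v hv
    obtain ⟨ee, hee, -⟩ := existsUnique_smul ha.1 (b₁ ≫ p) v
    rw [← hee, hsm _ _ ψ hψe, hsm _ _ φ hφ, Category.assoc, Category.assoc, hT, hpφ]

end Groth.Agent.DerGlue25
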